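import Mathlib

/-! A smooth morphism which is étale on a dense open is étale. -/

set_option autoImplicit false
universe u

open CategoryTheory CategoryTheory.Limits AlgebraicGeometry

namespace EtaleDenseLib

/-- A standard smooth formally unramified map to a nonzero ring has relative dimension zero. -/
theorem eq_zero_of_formallyUnramified {A B : Type u} [CommRing A] [CommRing B] [Algebra A B] [Nontrivial B] (n : ℕ)
    [Algebra.IsStandardSmoothOfRelativeDimension n A B] [Algebra.FormallyUnramified A B] : n = 0 := by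
  have h := Algebra.IsStandardSmoothOfRelativeDimension.rank_kaehlerDifferential (R := A) (S := B) n
  rw [rank_subsingleton' B (Ω[B⁄A])] at h
  exact_mod_cast h.symm

/-- A smooth morphism whose restriction to a dense open is formally unramified is étale. -/
theorem etale_of_smooth_of_dense {X Y : Scheme.{u}} (f : X ⟶ Y) [Smooth f] (V : X.Opens) (hV : Dense (V : Set X))
    [FormallyUnramified (V.ι ≫ f)] : Etale f := by
  rw [Etale.iff_smoothOfRelativeDimension_zero, smoothOfRelativeDimension_iff]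
  intro x
  obtain ⟨W, hW, U, hU, hx, e, hf⟩ := (Smooth.iff_forall_exists_isStandardSmooth f).1 inferInstance x
  refine ⟨W, hW, U, hU, hx, e, ?_⟩
  letI := (f.appLE W U e).hom.toAlgebra
  obtain ⟨n, hn⟩ : ∃ n, (f.appLE W U e).hom.IsStandardSmoothOfRelativeDimension n := by
    obtain ⟨ι, σ, _, _, ⟨P⟩⟩ := (hf : Algebra.IsStandardSmooth Γ(Y, W) Γ(X, U))
    exact ⟨P.dimension, ⟨⟨ι, σ, ‹_›, ‹_›, P, rfl⟩⟩⟩
  suffices n = 0 by subst this; exact hn
  obtain ⟨z, hzU, hzV⟩ := hV.inter_open_nonempty _ U.2 ⟨x, hx⟩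
  obtain ⟨g, hgV, hzg⟩ := hU.exists_basicOpen_le (⟨z, hzV⟩ : V) hzU
  let D := X.basicOpen g
  have hDU : D ≤ U := X.basicOpen_le g
  haveI : Nonempty D := ⟨⟨z, hzg⟩⟩
  haveI : Nontrivial Γ(X, D) := inferInstance
  haveI : IsLocalization.Away g Γ(X, D) := hU.isLocalization_basicOpen g
  have h1 : (f.appLE W D (hDU.trans e)).hom.IsStandardSmoothOfRelativeDimension n := by
    rw [show f.appLE W D (hDU.trans e) = f.appLE W U e ≫ X.presheaf.map (homOfLE hDU).op from
      (f.appLE_map e _).symm]
    exact (RingHom.isStandardSmoothOfRelativeDimension_stableUnderCompositionWithLocalizationAway n).right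
      (R := Γ(Y, W)) (S := Γ(X, U)) (T := Γ(X, D)) g (f.appLE W U e).hom hn
  have h2 : (f.appLE W D (hDU.trans e)).hom.FormallyUnramified := by
    let D' : V.toScheme.Opens := V.ι ⁻¹ᵁ D
    have hD' : IsAffineOpen D' := (hU.basicOpen g).preimage_of_isOpenImmersion V.ι (by rw [Scheme.Opens.opensRange_ι]; exact hgV)
    have h := FormallyUnramified.formallyUnramified_appLE (f := V.ι ≫ f) hW hD'
      (show D' ≤ (V.ι ≫ f) ⁻¹ᵁ W from fun y hy => hDU.trans e hy)
    haveI : IsIso (V.ι.appLE D D' le_rfl) := by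
      rw [← Scheme.Hom.app_eq_appLE]
      exact Scheme.Hom.isIso_app V.ι D (by rw [Scheme.Opens.opensRange_ι]; exact hgV)
    rw [← Scheme.Hom.appLE_comp_appLE V.ι f W D D' (hDU.trans e) le_rfl] at h
    exact (RingHom.FormallyUnramified.respectsIso.cancel_right_isIso _ _).1 h
  letI := (f.appLE W D (hDU.trans e)).hom.toAlgebra
  haveI : Algebra.IsStandardSmoothOfRelativeDimension n Γ(Y, W) Γ(X, D) := h1
  haveI : Algebra.FormallyUnramified Γ(Y, W) Γ(X, D) := h2
  exact eq_zero_of_formallyUnramified (A := Γ(Y, W)) (B := Γ(X, D)) n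

end EtaleDenseLib
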